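import Cfsg.Agent.H538.ExcF4Sys
import Cfsg.Agent.H286.OddNF
import Cfsg.Agent.UGT.U2.FOne.HexGTwo_m3
import Cfsg.Agent.Lib.Refl
import Cfsg.Agent.Prune
set_option linter.all false
prune_inst 0x7f00000000000000000000000000000000000000000000000000000000000000000000000000000000000000000000000000000000000000000000000000000000000000000000000000000000000000003fffffffffffffffffffffffffffbeffbdffffffff
open scoped Cfsg.Agent.FastGrp

/-!
# `²E₆(q)`, `q` odd: three commuting groups of fixed points (helper538)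
-/

set_option autoImplicit false
set_option linter.unusedSectionVars false
set_option maxHeartbeats 400000
set_option Elab.async false

namespace Cfsg.Agent.H538.F4S

open CoxeterSystem Cfsg.Agent.ChevalleyStructure.CoxeterGeom Cfsg.Agent.Tits.Roots Cfsg.Agent.Tits.Core
  Cfsg.Agent.Tits.RootComb Cfsg.Agent.Nodes.Comb Cfsg.Agent.Nodes.Reps Cfsg.Agent.Nodes.BNOf
  Cfsg.Agent.Nodes.RGDTwGen Cfsg.Agent.Nodes.RGDChev Cfsg.Agent.Nodes.RGDFold Cfsg.Agent.Nodes.Coroot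
  Cfsg.Agent.Nodes.RGDFoldSL Cfsg.Agent.Nodes.RGDTwE6 Cfsg.Agent.Nodes.RGDTwTab Cfsg.Agent.Nodes.RGDTwCoordE6
  Cfsg.Agent.Nodes.RGDTwCoord Cfsg.Agent.Nodes.RGDTwComE6 Cfsg.Agent.Nodes.RGDTwActE6
  Cfsg.Agent.Nodes.RGDLib Cfsg.Agent.Nodes.SubComb Cfsg.Agent.Nodes.Sub Cfsg.Agent.Nodes.Bruhat
  Cfsg.Agent.KFacts.RgdSL Cfsg.Agent.UGT.U2.FOne Cfsg.Agent.UGT.U2.FOne.TwESix
open Cfsg.Lie Cfsg.Agent.ChevalleyStructure
  Cfsg.Agent.ChevalleyStructure.TwistedU Cfsg.Agent.ChevalleyStructure.TwistedFix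
open Cfsg.Agent.KFacts.TwESix.Comb (bf rts mem_rts)
open Cfsg.Agent.H974.Exc
open scoped commutatorElement

set_option maxRecDepth 20000 in
theorem tab_com : ∀ r ∈ rts, ∀ s ∈ rts, bf r r = 4 → bf s s = 4 → bf r s = 0 →
    r + s ∉ rts ∧ r - s ∉ rts ∧ s ≠ r ∧ s ≠ -r ∧ -r - s ∉ rts ∧ -r + s ∉ rts := by (delta Cfsg.Agent.KFacts.TwESix.Comb.bf; set_option synthInstance.maxSize 100000 in exact Cfsg.Agent.Lib.Refl.of (by decide +kernel))

set_option maxRecDepth 20000 in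
theorem tab_b2 : ∀ s ∈ rts, ∀ t ∈ rts, bf s s = 2 → bf t t = 2 → bf s t = 0 →
    s + t ∈ rts ∧ Qv s = 2 ∧ Qv t = 2 ∧ Qv (s + t) = 4 ∧ (N s t = 1 ∨ N s t = -1) := by (set_option synthInstance.maxSize 100000 in exact Cfsg.Agent.Lib.Refl.of (by decide +kernel))

/-- **`²E₆(q)`** -/
theorem te6 {K : Type} [Field K] [Fintype K] {p : ℕ} [Fact p.Prime] [CharP K p] (hp2 : p ≠ 2) {q : ℕ}
    (hq : IsPrimePow q) (hK : Fintype.card K = q ^ 2) (x : MulAut ↥(Lie.twistedE6 K q)) (hxx : ∀ g, x (x g) = g)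
    (hx1 : x ≠ 1) : Com3 p x := by
  obtain ⟨φ, hφ, hqq⟩ := ChevalleyStructure.TwE6Basic.exists_frob hq hK
  have h2K : (2 : K) ≠ 0 := by
    intro h0
    have h1 : ((2 : ℕ) : K) = 0 := by exact_mod_cast h0
    rw [CharP.cast_eq_zero_iff K p] at h1
    exact hp2 ((Nat.prime_dvd_prime_iff_eq Fact.out Nat.prime_two).1 h1)
  have hs : IsSimpleGroup ↥(Lie.twistedE6 K q) := (Cfsg.Agent.S1070.result hq hK).1
  obtain ⟨cs, hcs⟩ : ∃ cs, cs = CoxeterMatrix.F₄.toCoxeterSystem := ⟨_, rfl⟩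
  have hW : Finite CoxeterMatrix.F₄.Group := Cfsg.Agent.KFacts.TwESix.Comb.finiteW cs
  have R := rgd cs hφ hqq p
  have hG := G1_eq_top (cs := cs) hφ hqq
  obtain ⟨k, x', φ', σ, J, g, hk, N'⟩ := H286.OddNF.exists_nf hp2 R hG x hxx hx1
  rw [← hk]
  refine Com3.congr ?_ _
  have hJ := J_empty hφ hqq p hq.two_le hK N'
  have hσ := sigma_id hφ hqq p hq.two_le hK N'
  subst hJ
  have hw : wJ cs (∅ : Set (Fin 4)) = 1 := by
    have F : Cfsg.Agent.Tits.OppRes.Cox cs := inferInstance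
    have h := F.wJ_mem (∅ : Set (Fin 4))
    unfold WJ at h
    rwa [Set.image_empty, Subgroup.closure_empty, Subgroup.mem_bot] at h
  have S : FS cs isCartan (X φ q) x' (AddMonoidHom.id (Fin 4 → ℤ)) := by
    refine ⟨fun r hr => (mem_rts cs).2 hr, ?_, ?_, ?_, ?_, ?_⟩
    · intro r hr
      rw [AddMonoidHom.id_apply, N'.nx.xX_id hσ ((mem_rts cs).2 hr), hw, map_one, Module.End.one_apply]
    · intro r hr s hs h1 h2
      exact Cfsg.Agent.KFacts.TwESix.Comb.a2 cs ((mem_rts cs).2 hr) ((mem_rts cs).2 hs) h1 h2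
    · intro r hr hr2 y hy
      exact Cfsg.Agent.KFacts.TwESix.Comb.cpr_short cs y ((mem_rts cs).2 hr) hr2
    · intro s hs t ht hs2 ht2 hst
      obtain ⟨h1, h2, h3, h4, h5⟩ := tab_b2 s hs t ht hs2 ht2 hst
      have rs := (mem_rts cs).2 hs
      have rt := (mem_rts cs).2 ht
      have rst := (mem_rts cs).2 h1
      have ok : ∀ a b : K, Ok chevE6 J O φ (s + t) (((N s t : ℤ) : K) * (a * φ b + φ a * b)) := fun a b =>
        ok_long rst h4 (by
          rw [map_mul, map_add, map_mul, map_mul, map_intCast, phi_phi hφ hqq, phi_phi hφ hqq, add_comm])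
      constructor
      · intro u hu v hv
        obtain ⟨a, ha, rfl⟩ := (mem_X hφ hqq rs _).1 hu
        obtain ⟨b, hb, rfl⟩ := (mem_X hφ hqq rt _).1 hv
        rw [comm_trace hφ hqq rs rt rst h2 h3 h4]
        exact x_mem hφ hqq rst (ok a b)
      · refine ⟨_, x_mem hφ hqq rs (ok_short hφ hqq rs h2 1), _, x_mem hφ hqq rt (ok_short hφ hqq rt h3 1), ?_⟩
        rw [comm_trace hφ hqq rs rt rst h2 h3 h4]
        intro h6
        have h7 := (x_eq_one_iff hφ hqq rst (ok 1 1)).1 h6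
        rw [map_one, mul_one] at h7
        have h8 : ((N s t : ℤ) : K) * 2 = 0 := by
          rw [← h7]; ring
        rcases mul_eq_zero.1 h8 with h9 | h9
        · rcases h5 with h5 | h5
          · rw [h5] at h9; simp at h9
          · rw [h5] at h9; simp at h9
        · exact h2K h9
    · intro r hr s hs h1 h2 h3 a ha b hb
      obtain ⟨k1, k2, k3, k4, k5, k6⟩ := tab_com r hr s hs h1 h2 h3
      exact comm_RA hφ hqq ((mem_rts cs).2 hr) ((mem_rts cs).2 hs) k1 k2 k3 k4 k5 k6 ha hb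
  exact S.com3 R ((Fact.out : p.Prime).odd_of_ne_two hp2) N'.xx

end Cfsg.Agent.H538.F4S
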